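import Cfsg.Agent.Lib.M24Elt.Classes
import Cfsg.Agent.Lib.Golay.Octads
import Cfsg.Agent.Lib.M24Cent.Data
import Mathlib.LinearAlgebra.Matrix.GeneralLinearGroup.Card
import Mathlib.LinearAlgebra.Matrix.SpecialLinearGroup
import Mathlib.LinearAlgebra.Matrix.Transvection

/-!
The centraliser in M24 of an involution with eight fixed points is isomorphic to the centraliser of
a transvection in SL(5, 2): an explicit isomorphism on two generators, with all orders checked.
-/

set_option autoImplicit false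

namespace CfsgLib.M24Cent

open Cfsg CfsgLib.Comp CfsgLib.Golay CfsgLib.M24Elt Matrix
open scoped Pointwise

/-- The isomorphism between the projections of a graph. -/
theorem iso_of_graph {G K : Type*} [Group G] [Group K] [Finite G] [Finite K] (CG : Subgroup G)
    (CK : Subgroup K) (a b : G) (A B : K) (n : ℕ) (ha : a ∈ CG) (hb : b ∈ CG) (hA : A ∈ CK)
    (hB : B ∈ CK) (hD : Nat.card (Subgroup.closure ({(a, A), (b, B)} : Set (G × K))) = n)
    (hG : Nat.card (Subgroup.closure ({a, b} : Set G)) = n)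
    (hK : Nat.card (Subgroup.closure ({A, B} : Set K)) = n)
    (hCG : Nat.card CG ≤ n) (hCK : Nat.card CK ≤ n) : Nonempty (CG ≃* CK) := by
  set D := Subgroup.closure ({(a, A), (b, B)} : Set (G × K))
  have e1 : D.map (MonoidHom.fst G K) = Subgroup.closure {a, b} := by
    rw [MonoidHom.map_closure, Set.image_pair]; rfl
  have e2 : D.map (MonoidHom.snd G K) = Subgroup.closure {A, B} := by
    rw [MonoidHom.map_closure, Set.image_pair]; rfl
  have f1 : CG = Subgroup.closure {a, b} :=
    (Subgroup.eq_of_le_of_card_ge ((Subgroup.closure_le _).2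
      (Set.insert_subset ha (Set.singleton_subset_iff.2 hb))) (hG.symm ▸ hCG)).symm
  have f2 : CK = Subgroup.closure {A, B} :=
    (Subgroup.eq_of_le_of_card_ge ((Subgroup.closure_le _).2
      (Set.insert_subset hA (Set.singleton_subset_iff.2 hB))) (hK.symm ▸ hCK)).symm
  have b1 : Function.Bijective ((MonoidHom.fst G K).subgroupMap D) :=
    (Nat.bijective_iff_surjective_and_card _).2
      ⟨MonoidHom.subgroupMap_surjective _ _, by rw [e1, hD, hG]⟩
  have b2 : Function.Bijective ((MonoidHom.snd G K).subgroupMap D) :=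
    (Nat.bijective_iff_surjective_and_card _).2
      ⟨MonoidHom.subgroupMap_surjective _ _, by rw [e2, hD, hK]⟩
  exact ⟨((MulEquiv.subgroupCongr (f1.trans e1.symm)).trans (MulEquiv.ofBijective _ b1).symm).trans
    ((MulEquiv.ofBijective _ b2).trans (MulEquiv.subgroupCongr (e2.trans f2.symm)))⟩

/-! ### The linear side -/

local notation "SL5" => Matrix.SpecialLinearGroup (Fin 5) (ZMod 2)

/-- Vectors numbered in binary. -/
def vec5 : (Fin 5 → ZMod 2) ≃ Fin 32 := finFunctionFinEquiv

/-- The action on the 32 vectors. -/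
def rho5 : SL5 →* Equiv.Perm (Fin 32) where
  toFun g :=
    { toFun := fun i => vec5 ((g : Matrix (Fin 5) (Fin 5) (ZMod 2)) *ᵥ vec5.symm i)
      invFun := fun i => vec5 (((g⁻¹ : SL5) : Matrix (Fin 5) (Fin 5) (ZMod 2)) *ᵥ vec5.symm i)
      left_inv := fun i => by
        beta_reduce
        rw [Equiv.symm_apply_apply, mulVec_mulVec, ← Matrix.SpecialLinearGroup.coe_mul,
          inv_mul_cancel, Matrix.SpecialLinearGroup.coe_one, one_mulVec, Equiv.apply_symm_apply]
      right_inv := fun i => by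
        beta_reduce
        rw [Equiv.symm_apply_apply, mulVec_mulVec, ← Matrix.SpecialLinearGroup.coe_mul,
          mul_inv_cancel, Matrix.SpecialLinearGroup.coe_one, one_mulVec, Equiv.apply_symm_apply] }
  map_one' := Equiv.ext fun i => by simp
  map_mul' g h := Equiv.ext fun i => by
    simp [Matrix.SpecialLinearGroup.coe_mul, mulVec_mulVec]

theorem rho5_injective : Function.Injective rho5 := fun g h e => by
  refine Subtype.ext (Matrix.mulVec_injective (funext fun v => ?_))
  have := congrArg (fun p : Equiv.Perm (Fin 32) => p (vec5 v)) e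
  simpa [rho5] using this

/-- First generator. -/
def sA : SL5 := ⟨!![1, 1, 0, 1, 0; 0, 1, 0, 0, 0; 0, 1, 0, 0, 1; 0, 1, 0, 1, 1; 0, 0, 1, 0, 0], by decide +kernel⟩

/-- Second generator. -/
def sB : SL5 := ⟨!![1, 0, 1, 1, 0; 0, 1, 0, 0, 0; 0, 0, 1, 1, 1; 0, 1, 0, 0, 1; 0, 0, 1, 0, 0], by decide +kernel⟩

theorem rho5_gens : (∀ i, (rho5 sA i : ℕ) = PermCode.get (Data.tzSGens.getD 0 0) i) ∧
    ∀ i, (rho5 sB i : ℕ) = PermCode.get (Data.tzSGens.getD 1 0) i := by
  constructor <;> decide +kernel

theorem sAB_comm {s : SL5} (hs : (s : Matrix (Fin 5) (Fin 5) (ZMod 2)) = Matrix.transvection 0 1 1) :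
    sA ∈ Subgroup.centralizer ({s} : Set SL5) ∧ sB ∈ Subgroup.centralizer ({s} : Set SL5) := by
  have h : sA.1 * (Matrix.transvection 0 1 1) = Matrix.transvection 0 1 1 * sA.1 ∧
      sB.1 * (Matrix.transvection 0 1 1) = Matrix.transvection 0 1 1 * sB.1 := by
    constructor <;> decide +kernel
  constructor <;> refine Subgroup.mem_centralizer_singleton_iff.2 (Subtype.ext ?_) <;>
    rw [Matrix.SpecialLinearGroup.coe_mul, Matrix.SpecialLinearGroup.coe_mul, hs]
  exacts [h.1, h.2]

/-- The lower right block index. -/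
def sh2 (k : Fin 3) : Fin 5 := ⟨k + 2, by omega⟩

theorem fin5_cases (k : Fin 5) : k = 0 ∨ k = 1 ∨ ∃ j, k = sh2 j := by revert k; decide

theorem card_centralizer_transvection_le {s : SL5}
    (hs : (s : Matrix (Fin 5) (Fin 5) (ZMod 2)) = Matrix.transvection 0 1 1) :
    Nat.card (Subgroup.centralizer ({s} : Set SL5)) ≤ 21504 := by
  classical
  set C := Subgroup.centralizer ({s} : Set SL5)
  have hT : ∀ g : C, ∀ i j : Fin 5,
      g.1.1 i 0 * (if j = 1 then 1 else 0) = (if i = 0 then 1 else 0) * g.1.1 1 j := by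
    intro g i j
    have h := congrFun (congrFun (congrArg (fun x : SL5 => (x : Matrix (Fin 5) (Fin 5) (ZMod 2)))
      (Subgroup.mem_centralizer_singleton_iff.1 g.2)) i) j
    simp only [Matrix.SpecialLinearGroup.coe_mul, hs, Matrix.transvection, Matrix.mul_add,
      Matrix.add_mul, Matrix.mul_one, Matrix.one_mul, Matrix.add_apply, add_right_inj] at h
    by_cases hi : i = 0 <;> by_cases hj : j = 1
    all_goals simpa [hi, hj, Matrix.mul_apply, Matrix.single_apply, eq_comm] using h
  have c0 : ∀ g : C, ∀ i, i ≠ 0 → g.1.1 i 0 = 0 := fun g i hi => by simpa [hi] using hT g i 1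
  have r1 : ∀ g : C, ∀ j, j ≠ 1 → g.1.1 1 j = 0 := fun g j hj => by
    simpa [hj, eq_comm] using hT g 0 j
  have h00 : ∀ g : C, g.1.1 0 0 = 1 := fun g => by
    by_contra h
    have h0 : g.1.1 0 0 = 0 := by
      revert h; generalize g.1.1 0 0 = x; revert x; decide
    have := Matrix.det_eq_zero_of_column_eq_zero (A := g.1.1) 0 fun i => by
      by_cases hi : i = 0
      · rw [hi]; exact h0
      · exact c0 g i hi
    rw [g.1.2] at this; exact one_ne_zero this
  have h11 : ∀ g : C, g.1.1 1 1 = 1 := fun g => by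
    have := hT g 0 1; simp [h00 g] at this; exact this.symm
  let blk : C → Matrix (Fin 3) (Fin 3) (ZMod 2) := fun g => Matrix.of fun k l => g.1.1 (sh2 k) (sh2 l)
  have hblk : ∀ g h : C, blk g * blk h = blk (g * h) := fun g h => by
    ext k l
    show ∑ j, g.1.1 (sh2 k) (sh2 j) * h.1.1 (sh2 j) (sh2 l) = (g.1.1 * h.1.1) (sh2 k) (sh2 l)
    rw [Matrix.mul_apply, Fin.sum_univ_five, Fin.sum_univ_three,
      c0 g (sh2 k) (by revert k; decide), r1 h (sh2 l) (by revert l; decide)]
    simp only [zero_mul, mul_zero, zero_add]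
    rfl
  have hone : blk 1 = 1 := by
    ext k l
    show (1 : Matrix (Fin 5) (Fin 5) (ZMod 2)) (sh2 k) (sh2 l) = _
    rw [Matrix.one_apply, Matrix.one_apply]
    exact if_congr ⟨fun e => Fin.ext (by simpa [sh2] using congrArg Fin.val e), fun e => by rw [e]⟩ rfl rfl
  let bU : C → GL (Fin 3) (ZMod 2) := fun g =>
    ⟨blk g, blk g⁻¹, by rw [hblk, mul_inv_cancel, hone], by rw [hblk, inv_mul_cancel, hone]⟩
  let f : C → ((Fin 4 → ZMod 2) × (Fin 3 → ZMod 2)) × GL (Fin 3) (ZMod 2) := fun g =>
    ((fun j => g.1.1 0 j.succ, fun k => g.1.1 (sh2 k) 1), bU g)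
  have hf : Function.Injective f := by
    intro g h e
    simp only [f, bU, Prod.mk.injEq, Units.ext_iff] at e
    obtain ⟨⟨e0, e1⟩, e2⟩ := e
    apply Subtype.ext; apply Subtype.ext
    ext i j
    rcases fin5_cases i with rfl | rfl | ⟨k, rfl⟩
    · rcases Fin.eq_zero_or_eq_succ j with rfl | ⟨j, rfl⟩
      · rw [h00 g, h00 h]
      · exact congrFun e0 j
    · by_cases hj : j = 1
      · rw [hj, h11 g, h11 h]
      · rw [r1 g j hj, r1 h j hj]
    · rcases fin5_cases j with rfl | rfl | ⟨l, rfl⟩
      · rw [c0 g _ (by revert k; decide), c0 h _ (by revert k; decide)]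
      · exact congrFun e1 k
      · exact congrFun (congrFun e2 k) l
  refine (Nat.card_le_card_of_injective f hf).trans (le_of_eq ?_)
  rw [Nat.card_prod, Nat.card_prod, Matrix.card_GL_field]
  simp [Fintype.card_pi, ZMod.card]
  decide +kernel

/-! ### The permutation side -/

/-- The involution. -/
noncomputable def zInv : ↥M24 := ⟨pm ClassData.rep2_8, pm_mem rep_goods.1⟩

/-- First generator. -/
noncomputable def gA : ↥M24 := if h : good (Data.tzCGens.getD 0 0) = true then ⟨_, pm_mem h⟩ else 1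

/-- Second generator. -/
noncomputable def gB : ↥M24 := if h : good (Data.tzCGens.getD 1 0) = true then ⟨_, pm_mem h⟩ else 1

theorem gens_checks : good (Data.tzCGens.getD 0 0) = true ∧ good (Data.tzCGens.getD 1 0) = true ∧
    eqc (PermCode.mul 24 (Data.tzCGens.getD 0 0) ClassData.rep2_8)
      (PermCode.mul 24 ClassData.rep2_8 (Data.tzCGens.getD 0 0)) = true ∧
    eqc (PermCode.mul 24 (Data.tzCGens.getD 1 0) ClassData.rep2_8)
      (PermCode.mul 24 ClassData.rep2_8 (Data.tzCGens.getD 1 0)) = true := by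
  refine ⟨?_, ?_, ?_, ?_⟩ <;> decide +kernel

theorem coe_gA : (gA : Equiv.Perm GolayPt) = pm (Data.tzCGens.getD 0 0) := by
  rw [gA, dif_pos gens_checks.1]

theorem coe_gB : (gB : Equiv.Perm GolayPt) = pm (Data.tzCGens.getD 1 0) := by
  rw [gB, dif_pos gens_checks.2.1]

theorem gAB_comm : gA ∈ Subgroup.centralizer ({zInv} : Set ↥M24) ∧
    gB ∈ Subgroup.centralizer ({zInv} : Set ↥M24) := by
  obtain ⟨ga, gb, ea, eb⟩ := gens_checks
  have hz := good_ok rep_goods.1
  constructor <;> refine Subgroup.mem_centralizer_singleton_iff.2 (Subtype.ext ?_)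
  · rw [Subgroup.coe_mul, Subgroup.coe_mul, coe_gA]
    show pm _ * pm ClassData.rep2_8 = pm ClassData.rep2_8 * pm _
    rw [← pm_mul (good_ok ga) hz, ← pm_mul hz (good_ok ga)]
    exact pm_eq_of_eqc (ok_pm_mul (good_ok ga) hz) (ok_pm_mul hz (good_ok ga)) ea
  · rw [Subgroup.coe_mul, Subgroup.coe_mul, coe_gB]
    show pm _ * pm ClassData.rep2_8 = pm ClassData.rep2_8 * pm _
    rw [← pm_mul (good_ok gb) hz, ← pm_mul hz (good_ok gb)]
    exact pm_eq_of_eqc (ok_pm_mul (good_ok gb) hz) (ok_pm_mul hz (good_ok gb)) eb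

/-- The octad fixed by the involution. -/
noncomputable def octO : Finset GolayPt := toSet Data.octMask

theorem oct_checks : (memb Data.octMask && Nat.beq (pc24 Data.octMask) 8 && Nat.blt Data.octMask 16777216 &&
    PermCode.allLt 24 fun i => (Nat.testBit Data.octMask i) ==
      Nat.beq (PermCode.get ClassData.rep2_8 i) i) = true := by decide +kernel

theorem mem_octO_iff (p : GolayPt) : p ∈ octO ↔ pm ClassData.rep2_8 p = p := by
  have h := oct_checks
  simp only [Bool.and_eq_true, beq_iff_eq] at h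
  have hb := beq_iff_eq.1 (PermCode.allLt_spec h.2 (bit p) (bit_lt p))
  rw [octO, mem_toSet, hb, Nat.beq_eq, ← bit_pm (good_ok rep_goods.1)]
  exact bit_injective.eq_iff

theorem octO_mem : octO ∈ octads := by
  have h := oct_checks
  simp only [Bool.and_eq_true, Nat.blt_eq] at h
  refine mem_octads.2 ⟨(toSet_mem_supports (by norm_num; exact h.1.2)).2 h.1.1.1, ?_⟩
  rw [octO, card_toSet, ← pc24_eq]
  exact Nat.eq_of_beq_eq_true h.1.1.2

theorem card_octad_stabilizer : Nat.card (MulAction.stabilizer ↥M24 octO) = 322560 := by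
  have hidx : (MulAction.stabilizer ↥M24 octO).index = 759 := by
    rw [MulAction.index_stabilizer, ← ncard_octads]
    congr 1
    ext o
    constructor
    · rintro ⟨g, rfl⟩
      exact (M24_smul_mem_octads g.2).2 octO_mem
    · intro ho
      obtain ⟨g, hg, he⟩ := exists_smul_octad octO_mem ho
      exact ⟨⟨g, hg⟩, he⟩
  have h := (MulAction.stabilizer ↥M24 octO).card_mul_index
  rw [hidx, card_M24] at h
  exact Nat.eq_of_mul_eq_mul_right (by norm_num : 0 < 759) (h.trans (by norm_num))

set_option maxRecDepth 20000 in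
theorem conj_checks : ((List.range 15).all fun i =>
    good (Data.conjList.getD i (0, 0)).1 && PermCode.okb 24 (Data.conjList.getD i (0, 0)).2 &&
    Nat.beq (push (Data.conjList.getD i (0, 0)).1 Data.octMask) Data.octMask &&
    eqc (PermCode.mul 24 (Data.conjList.getD i (0, 0)).1 ClassData.rep2_8)
      (PermCode.mul 24 (Data.conjList.getD i (0, 0)).2 (Data.conjList.getD i (0, 0)).1) &&
    (List.range 15).all fun j => Nat.beq i j ||
      !eqc (Data.conjList.getD i (0, 0)).2 (Data.conjList.getD j (0, 0)).2) = true := by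
  decide +kernel

theorem card_centralizer_inv_le :
    Nat.card (Subgroup.centralizer ({zInv} : Set ↥M24)) ≤ 21504 := by
  classical
  set C := Subgroup.centralizer ({zInv} : Set ↥M24)
  set St := MulAction.stabilizer ↥M24 octO
  have hle : C ≤ St := by
    intro c hc
    refine MulAction.mem_stabilizer_iff.2 (Finset.ext fun p => ?_)
    have hcz : Commute (c : Equiv.Perm GolayPt) (pm ClassData.rep2_8) :=
      congrArg Subtype.val (Subgroup.mem_centralizer_singleton_iff.1 hc)
    show p ∈ (c : Equiv.Perm GolayPt) • octO ↔ _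
    rw [← Finset.inv_smul_mem_iff, mem_octO_iff, mem_octO_iff, Equiv.Perm.smul_def]
    have e : pm ClassData.rep2_8 ((c : Equiv.Perm GolayPt)⁻¹ p) =
        (c : Equiv.Perm GolayPt)⁻¹ (pm ClassData.rep2_8 p) :=
      congrArg (fun x : Equiv.Perm GolayPt => x p) hcz.inv_left.eq.symm
    rw [e]
    exact (Equiv.injective _).eq_iff
  have hc := conj_checks
  simp only [List.all_eq_true, List.mem_range, Bool.and_eq_true, Bool.or_eq_true,
    Bool.not_eq_true'] at hc
  let g : Fin 15 → ↥M24 := fun i => ⟨pm _, pm_mem (hc i i.2).1.1.1.1⟩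
  have hg : ∀ i, g i ∈ St := fun i => by
    refine MulAction.mem_stabilizer_iff.2 ?_
    show pm _ • toSet Data.octMask = toSet Data.octMask
    rw [← toSet_push (isPermOf_pm (good_ok (hc i i.2).1.1.1.1)),
      Nat.eq_of_beq_eq_true (hc i i.2).1.1.2]
  have hy : ∀ i : Fin 15, (g i : Equiv.Perm GolayPt) * pm ClassData.rep2_8 * (g i : Equiv.Perm GolayPt)⁻¹ =
      pm (Data.conjList.getD i (0, 0)).2 := fun i => by
    obtain ⟨⟨⟨⟨h1, h2⟩, -⟩, h4⟩, -⟩ := hc i i.2
    have h1' := good_ok h1
    have h2' := PermCode.ok_of_okb h2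
    have hz := good_ok rep_goods.1
    have e := pm_eq_of_eqc (ok_pm_mul h1' hz) (ok_pm_mul h2' h1') h4
    rw [pm_mul h1' hz, pm_mul h2' h1'] at e
    show pm _ * pm _ * (pm _)⁻¹ = _
    rw [e, mul_inv_cancel_right]
  let f : Fin 15 × C → St := fun x => ⟨g x.1 * x.2, St.mul_mem (hg x.1) (hle x.2.2)⟩
  have hf : Function.Injective f := by
    rintro ⟨i, c⟩ ⟨j, d⟩ h
    have hv : g i * (c : ↥M24) = g j * (d : ↥M24) := congrArg Subtype.val h
    have key : ∀ (k : Fin 15) (x : C), (g k * (x : ↥M24)) * zInv * (g k * (x : ↥M24))⁻¹ =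
        g k * zInv * (g k)⁻¹ := fun k x => by
      rw [_root_.mul_inv_rev, mul_assoc (g k) _ zInv, Subgroup.mem_centralizer_singleton_iff.1 x.2]
      group
    have hij : i = j := by
      by_contra hne
      have h2 := key i c
      rw [hv, key j d] at h2
      have h3 : pm (Data.conjList.getD j (0, 0)).2 = pm (Data.conjList.getD i (0, 0)).2 := by
        rw [← hy, ← hy]; exact congrArg Subtype.val h2
      rcases (hc i i.2).2 j j.2 with e | e
      · exact hne (Fin.ext (Nat.eq_of_beq_eq_true e))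
      · have := eqc_of_pm_eq (PermCode.ok_of_okb (hc i i.2).1.1.1.2)
          (PermCode.ok_of_okb (hc j j.2).1.1.1.2) h3.symm
        rw [this] at e; exact Bool.noConfusion e
    subst hij
    exact Prod.ext rfl (Subtype.ext (mul_left_cancel hv))
  have h := Nat.card_le_card_of_injective f hf
  rw [Nat.card_prod, Nat.card_fin, card_octad_stabilizer] at h
  omega

/-! ### The isomorphism -/

/-- Permutations of 24 + 32 points as permutations of 56 points. -/
def sum56 : Equiv.Perm (Fin 24) × Equiv.Perm (Fin 32) →* Equiv.Perm (Fin 56) :=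
  (Equiv.permCongrHom (finSumFinEquiv (m := 24) (n := 32))).toMonoidHom.comp
    (Equiv.Perm.sumCongrHom (Fin 24) (Fin 32))

theorem sum56_injective : Function.Injective sum56 :=
  (Equiv.permCongrHom (finSumFinEquiv (m := 24) (n := 32))).injective.comp
    Equiv.Perm.sumCongrHom_injective

/-- The product of the two sides inside permutations of 56 points. -/
noncomputable def both : ↥M24 × SL5 →* Equiv.Perm (Fin 56) :=
  sum56.comp (MonoidHom.prodMap (toFin.toMonoidHom.comp M24.subtype) rho5)

theorem sum56_val (p : Equiv.Perm (Fin 24)) (q : Equiv.Perm (Fin 32)) (x : Fin 24 ⊕ Fin 32) :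
    (sum56 (p, q) (finSumFinEquiv x) : ℕ) =
      Sum.elim (fun a => (p a : ℕ)) (fun b => 24 + (q b : ℕ)) x := by
  show ((finSumFinEquiv ((Equiv.sumCongr p q) (finSumFinEquiv.symm (finSumFinEquiv x)))) : ℕ) = _
  rw [Equiv.symm_apply_apply]
  cases x <;> rfl

theorem joint_gens :
    (∀ i : Fin 56, (sum56 (PermCode.val 24 (Data.tzCGens.getD 0 0), rho5 sA) i : ℕ) =
      PermCode.get (Data.tzJGens.getD 0 0) i) ∧
    ∀ i : Fin 56, (sum56 (PermCode.val 24 (Data.tzCGens.getD 1 0), rho5 sB) i : ℕ) =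
      PermCode.get (Data.tzJGens.getD 1 0) i := by
  have h : ∀ i : Fin 56, PermCode.get (Data.tzJGens.getD 0 0) i =
      (if (i : ℕ) < 24 then PermCode.get (Data.tzCGens.getD 0 0) i
        else 24 + PermCode.get (Data.tzSGens.getD 0 0) (i - 24)) ∧
      PermCode.get (Data.tzJGens.getD 1 0) i =
      (if (i : ℕ) < 24 then PermCode.get (Data.tzCGens.getD 1 0) i
        else 24 + PermCode.get (Data.tzSGens.getD 1 0) (i - 24)) := by decide +kernel
  constructor <;> intro i <;> obtain ⟨h1, h2⟩ := h i <;>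
    obtain ⟨x | x, rfl⟩ := (finSumFinEquiv (m := 24) (n := 32)).surjective i
  all_goals simp only [sum56_val, Sum.elim_inl, Sum.elim_inr]
  · rw [h1, show ((finSumFinEquiv (m := 24) (n := 32) (Sum.inl x) : Fin (24 + 32)) : ℕ) = x from rfl,
      if_pos x.2, PermCode.val_apply (good_ok gens_checks.1)]
  · rw [h1, show ((finSumFinEquiv (m := 24) (n := 32) (Sum.inr x) : Fin (24 + 32)) : ℕ) = 24 + x from rfl,
      if_neg (by omega), Nat.add_sub_cancel_left, rho5_gens.1]
  · rw [h2, show ((finSumFinEquiv (m := 24) (n := 32) (Sum.inl x) : Fin (24 + 32)) : ℕ) = x from rfl,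
      if_pos x.2, PermCode.val_apply (good_ok gens_checks.2.1)]
  · rw [h2, show ((finSumFinEquiv (m := 24) (n := 32) (Sum.inr x) : Fin (24 + 32)) : ℕ) = 24 + x from rfl,
      if_neg (by omega), Nat.add_sub_cancel_left, rho5_gens.2]

theorem val_set_pair {n : ℕ} (L : List ℕ) (a b : ℕ) (hL : L = [a, b]) :
    {g : Equiv.Perm (Fin n) | ∃ s ∈ L, PermCode.val n s = g} =
      {PermCode.val n a, PermCode.val n b} := by
  subst hL; ext g; simp [eq_comm]

theorem centralizer_iso_zInv (s : SL5)
    (hs : (s : Matrix (Fin 5) (Fin 5) (ZMod 2)) = Matrix.transvection 0 1 1) :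
    orderOf zInv = 2 ∧ Nonempty (↥(Subgroup.centralizer ({zInv} : Set ↥M24)) ≃*
      ↥(Subgroup.centralizer ({s} : Set SL5))) := by
  have : Fact (Nat.Prime 2) := ⟨Nat.prime_two⟩
  refine ⟨?_, ?_⟩
  · rw [← Subgroup.orderOf_coe]
    exact orderOf_pm (good_ok rep_goods.1) (by decide +kernel) (by decide +kernel)
  have okS : PermCode.okb 32 (Data.tzSGens.getD 0 0) = true ∧
      PermCode.okb 32 (Data.tzSGens.getD 1 0) = true ∧
      PermCode.okb 56 (Data.tzJGens.getD 0 0) = true ∧
      PermCode.okb 56 (Data.tzJGens.getD 1 0) = true := by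
    refine ⟨?_, ?_, ?_, ?_⟩ <;> decide +kernel
  have eA : toFin (gA : Equiv.Perm GolayPt) = PermCode.val 24 (Data.tzCGens.getD 0 0) := by
    rw [coe_gA, toFin_pm]
  have eB : toFin (gB : Equiv.Perm GolayPt) = PermCode.val 24 (Data.tzCGens.getD 1 0) := by
    rw [coe_gB, toFin_pm]
  have hinjT : Function.Injective (toFin.toMonoidHom.comp M24.subtype) :=
    toFin.injective.comp M24.subtype_injective
  refine iso_of_graph _ _ gA gB sA sB 21504 gAB_comm.1 gAB_comm.2 (sAB_comm hs).1 (sAB_comm hs).2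
    ?_ ?_ ?_ card_centralizer_inv_le (card_centralizer_transvection_le hs)
  · have hinj : Function.Injective both :=
      sum56_injective.comp (hinjT.prodMap rho5_injective)
    rw [← Subgroup.card_map_of_injective hinj, MonoidHom.map_closure, Set.image_pair,
      ← Data.tzJ_card, PermCode.span, val_set_pair Data.tzJGens _ _ rfl]
    have h1 : both (gA, sA) = PermCode.val 56 (Data.tzJGens.getD 0 0) :=
      (PermCode.val_eq_of okS.2.2.1 _ fun i => by
        show (sum56 (toFin (gA : Equiv.Perm GolayPt), rho5 sA) i : ℕ) = _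
        rw [eA]; exact joint_gens.1 i).symm
    have h2 : both (gB, sB) = PermCode.val 56 (Data.tzJGens.getD 1 0) :=
      (PermCode.val_eq_of okS.2.2.2 _ fun i => by
        show (sum56 (toFin (gB : Equiv.Perm GolayPt), rho5 sB) i : ℕ) = _
        rw [eB]; exact joint_gens.2 i).symm
    rw [h1, h2]; rfl
  · rw [← Subgroup.card_map_of_injective hinjT, MonoidHom.map_closure, Set.image_pair,
      ← Data.tzC_card, PermCode.span, val_set_pair Data.tzCGens _ _ rfl]
    show Nat.card (Subgroup.closure {toFin (gA : Equiv.Perm GolayPt), toFin (gB : Equiv.Perm GolayPt)} :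
      Subgroup (Equiv.Perm (Fin 24))) = _
    rw [eA, eB]; rfl
  · rw [← Subgroup.card_map_of_injective rho5_injective, MonoidHom.map_closure, Set.image_pair,
      ← Data.tzS_card, PermCode.span, val_set_pair Data.tzSGens _ _ rfl,
      ← PermCode.val_eq_of okS.1 (rho5 sA) rho5_gens.1,
      ← PermCode.val_eq_of okS.2.1 (rho5 sB) rho5_gens.2]
    rfl

theorem centralizer_iso (s : SL5)
    (hs : (s : Matrix (Fin 5) (Fin 5) (ZMod 2)) = Matrix.transvection 0 1 1) :
    ∃ z : ↥M24, orderOf z = 2 ∧ Nonempty (↥(Subgroup.centralizer ({z} : Set ↥M24)) ≃*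
      ↥(Subgroup.centralizer ({s} : Set SL5))) :=
  ⟨zInv, centralizer_iso_zInv s hs⟩

end CfsgLib.M24Cent
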